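import Cfsg.Agent.Lib.SLRGD.Basic
import Cfsg.Agent.Lib.RGD.Steinberg
import Cfsg.Agent.Lib.Char.Eigen

/-!
# `SL (m+1, q)`: long word, Sylow `p`-subgroup, Steinberg character

* `exists_long`, `slRGD_G`;
* `sylow_index` : `Upos` is a `p`-group of index prime to `p`;
* `exists_steinberg` : an irreducible character of degree `|Upos|`, trivial on the centre, vanishing on `Upos - {1}`.
-/

set_option autoImplicit false

namespace Cfsg.Agent.SLRGD

open Matrix Cfsg.Agent.RGD

variable (F : Type*) [Field F] (m : ℕ)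

local notation "Γ" => Matrix.SpecialLinearGroup (Fin (m + 1)) F
local notation "R" => slRGD F m

/-- The permutation of a word. -/
def wperm (l : List (Fin m)) : Equiv.Perm (Fin (m + 1)) := (l.map (sw m)).prod

lemma ww_eq (l : List (Fin m)) (r : Root m) :
    (RootData.ww R l r).1 = (wperm m l r.1.1, wperm m l r.1.2) := by
  induction l with
  | nil => simp [wperm]
  | cons i l ih =>
    rw [RootData.ww_cons]
    show (sw m i (RootData.ww R l r).1.1, sw m i (RootData.ww R l r).1.2) = _
    rw [ih]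
    simp [wperm, Equiv.Perm.mul_apply]

theorem exists_long : ∃ l : List (Fin m), ∀ r, RootData.pos R r → ¬ RootData.pos R (RootData.ww R l r) := by
  obtain ⟨l, hl⟩ := RootData.exists_long R
  refine ⟨l, fun r hr hp => ?_⟩
  have hanti : StrictAnti (wperm m l) := Fin.strictAnti_iff_succ_lt.2 fun i => by
    have h := hl i
    change ¬ (RootData.ww R l _).1.1 < (RootData.ww R l _).1.2 at h
    rw [ww_eq] at h
    exact lt_of_le_of_ne (not_lt.1 h) ((wperm m l).injective.ne (Fin.castSucc_lt_succ (i := i)).ne')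
  change (RootData.ww R l r).1.1 < (RootData.ww R l r).1.2 at hp
  rw [ww_eq] at hp
  exact absurd (hanti (show r.1.1 < r.1.2 from hr)) hp.not_gt

theorem slRGD_G : RootData.G R = ⊤ := by
  obtain ⟨l, hl⟩ := exists_long F m
  rcases subsingleton_or_nontrivial (Fin (m + 1)) with hs | hs
  · rw [eq_top_iff]
    intro g _
    have : g = 1 := by
      apply Subtype.ext
      ext i j
      have h := g.2
      rw [Matrix.det_eq_elem_of_subsingleton _ i] at h
      rw [Subsingleton.elim j i, h]
      simp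
    rw [this]
    exact one_mem _
  rw [eq_top_iff]
  intro g _
  refine SLGen.mem_of_all_transvections _ (fun i j hij c => ?_) g
  by_cases hlt : i < j
  · exact RootData.B_le_G R (RootData.Upos_le_B R (RootData.U_le_Upos R (r := ⟨(i, j), hij⟩) hlt ⟨c, rfl⟩))
  · have hx : x F m hij c ∈ RootData.Vneg R := RootData.U_le_Vneg R (r := ⟨(i, j), hij⟩) hlt ⟨c, rfl⟩
    rw [← RootData.map_conj_long R hl] at hx
    obtain ⟨u, hu, he⟩ := hx
    show x F m hij c ∈ _
    rw [← he]
    exact mul_mem (mul_mem (RootData.N_le_G R (RootData.nw_mem_N R l))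
      (RootData.B_le_G R (RootData.Upos_le_B R hu))) (inv_mem (RootData.N_le_G R (RootData.nw_mem_N R l)))

theorem Upos_le_unitri :
    RootData.Upos R ≤ unitri F m (id : Fin (m + 1) → Fin (m + 1)) Function.injective_id := by
  refine RootData.span_le R fun r hr => ?_
  rintro _ ⟨c, rfl⟩
  exact x_mem_unitri F m (b := id) _ r.2 hr c

variable {p : ℕ} [Fact p.Prime] [CharP F p]

theorem isPGroup_unitri :
    IsPGroup p (unitri F m (id : Fin (m + 1) → Fin (m + 1)) Function.injective_id) := by
  intro g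
  refine ⟨m + 1, Subtype.ext ?_⟩
  apply Subtype.ext
  show ((g : Γ) ^ p ^ (m + 1)).1 = 1
  rw [Matrix.SpecialLinearGroup.coe_pow]
  haveI : CharP (Matrix (Fin (m + 1)) (Fin (m + 1)) F) p := inferInstance
  have hN : ((g : Γ).1 - 1) ^ (m + 1) = 0 := by
    have ht : ((g : Γ).1).BlockTriangular id := g.2.1.1
    have hch : ((g : Γ).1).charpoly = (Polynomial.X - Polynomial.C 1) ^ (m + 1) := by
      rw [Matrix.charpoly_of_upperTriangular _ ht]
      simp [g.2.2]
    have := Matrix.aeval_self_charpoly (g : Γ).1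
    rw [hch] at this
    simpa using this
  have h : ((g : Γ).1 - 1) ^ p ^ (m + 1) = 0 :=
    pow_eq_zero_of_le (Nat.lt_pow_self (Fact.out : p.Prime).one_lt).le hN
  rw [sub_pow_char_pow_of_commute _ _ (Commute.one_right _), one_pow, sub_eq_zero] at h
  exact h

theorem sylow_index [Finite F] : IsPGroup p (RootData.Upos R) ∧ ¬ p ∣ (RootData.Upos R).index := by
  classical
  have := Fintype.ofFinite F
  have hp := IsPGroup.to_le (isPGroup_unitri F m (p := p)) (Upos_le_unitri F m)
  refine ⟨hp, fun hdvd => ?_⟩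
  -- fixed cosets of `Upos` on `Γ ⧸ B`
  have hUB : RootData.Upos R ≤ RootData.B R := RootData.Upos_le_B R
  have hfix : ∀ q : Γ ⧸ RootData.B R, q ∈ MulAction.fixedPoints (RootData.Upos R) (Γ ⧸ RootData.B R) ↔
      q = ((1 : Γ) : Γ ⧸ RootData.B R) := by
    intro q
    constructor
    · intro hq
      induction q using QuotientGroup.induction_on with
      | H g =>
        obtain ⟨b, hb, l, u, hu, e⟩ := RootData.exists_normalForm R (g := g⁻¹) (by rw [slRGD_G]; trivial)
        have hgu : ∀ v ∈ RootData.Upos R, g⁻¹ * v * g ∈ RootData.B R := by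
          intro v hv
          have h1 := hq ⟨v, hv⟩
          change ((v * g : Γ) : Γ ⧸ RootData.B R) = (g : Γ ⧸ RootData.B R) at h1
          rw [eq_comm, QuotientGroup.eq] at h1
          simpa [mul_assoc] using h1
        have hl : RootData.nw R l ∈ RootData.H R := by
          refine RootData.mem_H_of_pos R fun r hr => ?_
          rw [← RootData.U_le_B_iff R, ← RootData.map_conj_U R]
          rintro _ ⟨v, hv, rfl⟩
          have h1 := hgu (u⁻¹ * v * u) (mul_mem (mul_mem (inv_mem (RootData.Uminus_le_Upos R l hu))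
            (RootData.U_le_Upos R hr hv)) (RootData.Uminus_le_Upos R l hu))
          have h2 := mul_mem (mul_mem (inv_mem hb) h1) hb
          convert h2 using 1
          show RootData.nw R l * v * (RootData.nw R l)⁻¹ = _
          rw [show g = (g⁻¹)⁻¹ by group, e]
          group
        refine QuotientGroup.eq.2 ?_
        rw [mul_one, e]
        exact mul_mem (mul_mem hb (RootData.H_le_B R hl)) (hUB (RootData.Uminus_le_Upos R l hu))
    · rintro rfl ⟨v, hv⟩
      show ((v * 1 : Γ) : Γ ⧸ RootData.B R) = ((1 : Γ) : Γ ⧸ RootData.B R)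
      rw [QuotientGroup.eq]
      simpa using inv_mem (hUB hv)
  have h1 := hp.card_modEq_card_fixedPoints (Γ ⧸ RootData.B R)
  have h2 : Nat.card (MulAction.fixedPoints (RootData.Upos R) (Γ ⧸ RootData.B R)) = 1 := by
    rw [Nat.card_eq_one_iff_unique]
    exact ⟨⟨fun a b => Subtype.ext (((hfix _).1 a.2).trans ((hfix _).1 b.2).symm)⟩, ⟨⟨_, (hfix _).2 rfl⟩⟩⟩
  rw [h2] at h1
  have hcardB : Nat.card (RootData.B R) = Nat.card (RootData.Upos R) * Nat.card (RootData.H R) := by
    rw [← Nat.card_prod]
    refine (Nat.card_congr (Equiv.ofBijective (fun q : RootData.Upos R × RootData.H R =>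
      (⟨q.1.1 * q.2.1, mul_mem (hUB q.1.2) (RootData.H_le_B R q.2.2)⟩ : RootData.B R)) ⟨?_, ?_⟩)).symm
    · rintro ⟨⟨a, ha⟩, ⟨b, hb⟩⟩ ⟨⟨a', ha'⟩, ⟨b', hb'⟩⟩ e
      have e' : a * b = a' * b' := congrArg Subtype.val e
      have hmem : a'⁻¹ * a ∈ RootData.Upos R ⊓ RootData.H R := by
        refine Subgroup.mem_inf.2 ⟨mul_mem (inv_mem ha') ha, ?_⟩
        rw [show a'⁻¹ * a = b' * b⁻¹ by rw [eq_mul_inv_iff_mul_eq, mul_assoc, e', inv_mul_cancel_left]]
        exact mul_mem hb' (inv_mem hb)
      rw [show RootData.Upos R ⊓ RootData.H R = ⊥ from (slRGD F m).U_inf_H, Subgroup.mem_bot, inv_mul_eq_one] at hmem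
      subst hmem
      obtain rfl := mul_left_cancel e'
      rfl
    · rintro ⟨g, hg⟩
      obtain ⟨a, ha, b, hb, rfl⟩ := RootData.exists_B R hg
      exact ⟨(⟨a, ha⟩, ⟨b, hb⟩), rfl⟩
  have hH : ¬ p ∣ Nat.card (RootData.H R) := by
    intro hd
    obtain ⟨⟨h, hh⟩, ho⟩ := exists_prime_orderOf_dvd_card' (G := RootData.H R) p hd
    have hh' : h ∈ diagSub F m := hh
    have hp1 : h ^ p = 1 := by
      have h3 := pow_orderOf_eq_one (⟨h, hh⟩ : RootData.H R)
      rw [ho] at h3
      exact congrArg Subtype.val h3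
    have h1' : h = 1 := by
      apply Subtype.ext
      obtain ⟨d, hd'⟩ : ∃ d, h.1 = diagonal d := ⟨_, hh'.1.diagonal_diag.symm⟩
      have h3 : h.1 ^ p = 1 := by rw [← Matrix.SpecialLinearGroup.coe_pow, hp1]; rfl
      rw [hd', diagonal_pow, ← diagonal_one] at h3
      show h.1 = 1
      rw [hd', ← diagonal_one]
      refine congrArg diagonal (funext fun k => ?_)
      have h4 : d k ^ p = 1 := congrFun (diagonal_injective h3) k
      have h5 : (d k - 1) ^ p = 0 := by rw [sub_pow_char, h4, one_pow, sub_self]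
      exact sub_eq_zero.1 (pow_eq_zero_iff (Fact.out : p.Prime).ne_zero |>.1 h5)
    subst h1'
    rw [show (⟨1, hh⟩ : RootData.H R) = 1 from rfl, orderOf_one] at ho
    exact (Fact.out : p.Prime).one_lt.ne ho
  have hidx : (RootData.Upos R).index = Nat.card (RootData.H R) * (RootData.B R).index := by
    have h3 := Subgroup.card_mul_index (RootData.Upos R)
    rw [← Subgroup.card_mul_index (RootData.B R), hcardB, mul_assoc] at h3
    exact Nat.eq_of_mul_eq_mul_left Nat.card_pos h3
  rw [hidx] at hdvd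
  rcases (Fact.out : p.Prime).dvd_mul.1 hdvd with h | h
  · exact hH h
  · have : (RootData.B R).index % p = 1 % p := by rw [Subgroup.index_eq_card]; exact h1
    rw [Nat.mod_eq_zero_of_dvd h, Nat.mod_eq_of_lt (Fact.out : p.Prime).one_lt] at this
    exact absurd this zero_ne_one

theorem center_le_diag : Subgroup.center Γ ≤ RootData.H R := by
  intro z hz
  obtain ⟨r, -, hr⟩ := Matrix.SpecialLinearGroup.mem_center_iff.1 hz
  exact mem_diag_of_eq F m (fun _ => r) hr.symm

theorem exists_steinberg [Finite F] : ∃ χ : Γ → ℂ, Cfsg.IsIrrCharacter Γ χ ∧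
    χ 1 = (Nat.card (RootData.Upos R) : ℂ) ∧ (∀ u ∈ RootData.Upos R, u ≠ 1 → χ u = 0) ∧
    ∀ z ∈ Subgroup.center Γ, χ z = χ 1 := by
  classical
  obtain ⟨l, hl⟩ := exists_long F m
  let e : RootData.G R ≃* Γ := (MulEquiv.subgroupCongr (slRGD_G F m)).trans Subgroup.topEquiv
  have he : ∀ g, e g = (g : Γ) := fun g => rfl
  obtain ⟨h1, h2⟩ := RootData.St_one_eq R hl
  refine ⟨fun g => BN.St (RootData.bnPair R) (e.symm g),
    Char.IsIrrCharacter.comp_equiv (BN.isIrrCharacter_St _) e.symm, by simpa using h1, fun u hu hu1 => ?_, ?_⟩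
  · exact h2 (e.symm u) hu fun h => hu1 (by simpa using congrArg e h)
  · intro z hz
    have hmem : (e.symm z : Γ) = z := e.apply_symm_apply z
    show BN.St _ (e.symm z) = BN.St _ (e.symm 1)
    rw [map_one, BN.St, BN.St]
    refine Finset.sum_congr rfl fun A _ => ?_
    congr 1
    simp only [Cfsg.fixedPointCharacter]
    congr 1
    refine Nat.card_congr (Equiv.subtypeEquivRight fun q => ?_)
    show e.symm z • q = q ↔ (1 : RootData.G R) • q = q
    rw [one_smul]
    refine iff_of_true ?_ rfl
    induction q using QuotientGroup.induction_on with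
    | H g =>
      rw [MulAction.Quotient.smul_coe, smul_eq_mul]
      have hcomm : e.symm z * g = g * e.symm z := Subtype.ext (by
        show (e.symm z : Γ) * g = g * (e.symm z : Γ)
        rw [hmem]
        exact ((Subgroup.mem_center_iff.1 hz) g).symm)
      rw [hcomm]
      refine QuotientGroup.mk_mul_of_mem g (BN.le_parabolic _ _ ?_)
      show (e.symm z : Γ) ∈ RootData.B R
      rw [hmem]
      exact RootData.H_le_B R (center_le_diag F m hz)

end Cfsg.Agent.SLRGD
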