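import Cfsg.Agent.Lib.RGD.NormalForm
import Cfsg.Agent.Lib.SLGen.Cycle

/-!
# Root group data of `SL (m+1, F)`

* `slRGD F m : RootData (SL (m+1) F) (Root m) (Fin m)` with root subgroups the transvection groups,
  `H` the diagonal subgroup, `n i` the monomial lifts of the adjacent transpositions;
* `slRGD_G` : its group is everything; `exists_long` : a word sending positive roots to negative ones.
-/

set_option autoImplicit false

namespace Cfsg.Agent.SLRGD

open Matrix

variable (F : Type*) [Field F] (m : ℕ)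

local notation "Γ" => Matrix.SpecialLinearGroup (Fin (m + 1)) F

/-- The roots of type A. -/
abbrev Root : Type := {p : Fin (m + 1) × Fin (m + 1) // p.1 ≠ p.2}

/-- A transvection in the special linear group. -/
def x {a b : Fin (m + 1)} (h : a ≠ b) (c : F) : Γ := Matrix.SpecialLinearGroup.transvection h c

lemma x_coe {a b : Fin (m + 1)} (h : a ≠ b) (c : F) :
    ((x F m h c : Γ) : Matrix (Fin (m + 1)) (Fin (m + 1)) F) = Matrix.transvection a b c := rfl

/-- The root subgroups. -/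
def rootGrp (r : Root m) : Subgroup Γ where
  carrier := {g | ∃ c, g = x F m r.2 c}
  mul_mem' := by
    rintro _ _ ⟨c, rfl⟩ ⟨d, rfl⟩
    exact ⟨c + d, Subtype.ext (Matrix.transvection_mul_transvection_same _ _ r.2 c d)⟩
  one_mem' := ⟨0, Subtype.ext (Matrix.transvection_zero _ _).symm⟩
  inv_mem' := by
    rintro _ ⟨c, rfl⟩
    exact ⟨-c, Matrix.SpecialLinearGroup.transvection_inv _ _⟩

lemma x_mem {r : Root m} (c : F) : x F m r.2 c ∈ rootGrp F m r := ⟨c, rfl⟩

/-- Triangular elements with respect to `b`. -/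
def tri {α : Type*} [LinearOrder α] (b : Fin (m + 1) → α) : Subgroup Γ where
  carrier := {g | (g.1).BlockTriangular b ∧ ((g⁻¹).1).BlockTriangular b}
  mul_mem' := by
    rintro g k ⟨h1, h2⟩ ⟨k1, k2⟩
    refine ⟨?_, ?_⟩
    · rw [Matrix.SpecialLinearGroup.coe_mul]; exact h1.mul k1
    · rw [_root_.mul_inv_rev, Matrix.SpecialLinearGroup.coe_mul]; exact k2.mul h2
  one_mem' := by
    refine ⟨?_, ?_⟩ <;> simp [Matrix.blockTriangular_one]
  inv_mem' := by
    rintro g ⟨h1, h2⟩
    exact ⟨h2, by rwa [inv_inv]⟩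

lemma diag_mul {α : Type*} [LinearOrder α] {b : Fin (m + 1) → α} (hb : Function.Injective b)
    {A B : Matrix (Fin (m + 1)) (Fin (m + 1)) F} (hA : A.BlockTriangular b) (hB : B.BlockTriangular b)
    (k : Fin (m + 1)) : (A * B) k k = A k k * B k k := by
  rw [Matrix.mul_apply, Finset.sum_eq_single k]
  · intro l _ hl
    rcases lt_or_gt_of_ne (hb.ne hl) with h | h
    · rw [hA h, zero_mul]
    · rw [hB h, mul_zero]
  · simp

/-- Unitriangular elements. -/
def unitri {α : Type*} [LinearOrder α] (b : Fin (m + 1) → α) (hb : Function.Injective b) : Subgroup Γ where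
  carrier := {g | g ∈ tri F m b ∧ ∀ k, g.1 k k = 1}
  mul_mem' := by
    rintro g k ⟨h1, h2⟩ ⟨k1, k2⟩
    refine ⟨mul_mem h1 k1, fun l => ?_⟩
    rw [Matrix.SpecialLinearGroup.coe_mul, diag_mul F m hb h1.1 k1.1, h2, k2, one_mul]
  one_mem' := ⟨one_mem _, fun k => by simp⟩
  inv_mem' := by
    rintro g ⟨h1, h2⟩
    refine ⟨inv_mem h1, fun k => ?_⟩
    have := diag_mul F m hb h1.2 h1.1 k
    rw [← Matrix.SpecialLinearGroup.coe_mul, inv_mul_cancel, h2, mul_one] at this
    simpa using this.symm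

/-- The diagonal subgroup. -/
def diagSub : Subgroup Γ where
  carrier := {g | g.1.IsDiag ∧ (g⁻¹).1.IsDiag}
  mul_mem' := by
    rintro g k ⟨h1, h2⟩ ⟨k1, k2⟩
    refine ⟨?_, ?_⟩
    · rw [Matrix.SpecialLinearGroup.coe_mul, ← h1.diagonal_diag, ← k1.diagonal_diag, diagonal_mul_diagonal]
      exact isDiag_diagonal _
    · rw [_root_.mul_inv_rev, Matrix.SpecialLinearGroup.coe_mul, ← h2.diagonal_diag, ← k2.diagonal_diag,
        diagonal_mul_diagonal]
      exact isDiag_diagonal _
  one_mem' := by refine ⟨?_, ?_⟩ <;> simp [isDiag_one]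
  inv_mem' := by
    rintro g ⟨h1, h2⟩
    exact ⟨h2, by rwa [inv_inv]⟩

lemma mem_diag_of_eq {g : Γ} (d : Fin (m + 1) → F) (h : g.1 = diagonal d) : g ∈ diagSub F m := by
  refine ⟨h ▸ isDiag_diagonal d, ?_⟩
  have hd : ∀ k, d k ≠ 0 := by
    have := g.2
    rw [h, det_diagonal] at this
    exact fun k hk => one_ne_zero (this.symm.trans (Finset.prod_eq_zero (Finset.mem_univ k) hk))
  let g' : Γ := ⟨diagonal fun k => (d k)⁻¹, by
    rw [det_diagonal, Finset.prod_inv_distrib, ← det_diagonal, ← h, g.2, inv_one]⟩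
  have : g⁻¹ = g' := inv_eq_of_mul_eq_one_right (Subtype.ext (by
    rw [Matrix.SpecialLinearGroup.coe_mul, h, Matrix.SpecialLinearGroup.coe_one, diagonal_mul_diagonal]
    rw [← diagonal_one]
    exact congrArg diagonal (funext fun k => mul_inv_cancel₀ (hd k))))
  rw [this]
  exact isDiag_diagonal _

lemma diag_ne_zero {g : Γ} (hg : g ∈ diagSub F m) (k : Fin (m + 1)) : g.1 k k ≠ 0 := by
  intro h
  have := g.2
  rw [← hg.1.diagonal_diag, det_diagonal] at this
  exact one_ne_zero (this.symm.trans (Finset.prod_eq_zero (Finset.mem_univ k) h))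

lemma diagSub_le_tri {α : Type*} [LinearOrder α] (b : Fin (m + 1) → α) : diagSub F m ≤ tri F m b := by
  rintro g ⟨h1, h2⟩
  refine ⟨fun i j hij => h1 ?_, fun i j hij => h2 ?_⟩ <;> exact fun e => hij.ne' (congrArg b e)

lemma x_mem_unitri {α : Type*} [LinearOrder α] {b : Fin (m + 1) → α} (hb : Function.Injective b)
    {i j : Fin (m + 1)} (hij : i ≠ j) (hlt : b i < b j) (c : F) : x F m hij c ∈ unitri F m b hb := by
  have key : ∀ c : F, (Matrix.transvection i j c).BlockTriangular b := by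
    intro c k l hkl
    rw [SLGen.tv_apply, if_neg (fun e => hkl.ne' (congrArg b e)),
      if_neg (by rintro ⟨rfl, rfl⟩; exact absurd hlt hkl.not_gt), add_zero]
  refine ⟨⟨key c, ?_⟩, fun k => ?_⟩
  · rw [x, Matrix.SpecialLinearGroup.transvection_inv]; exact key (-c)
  · rw [x_coe, SLGen.tv_apply, if_pos rfl, if_neg (by rintro ⟨rfl, rfl⟩; exact hij rfl), add_zero]

/-- Signed monomial lift of an adjacent transposition. -/
def nn (i : Fin m) : Γ :=
  x F m (Fin.castSucc_lt_succ (i := i)).ne 1 * x F m (Fin.castSucc_lt_succ (i := i)).ne' (-1) *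
    x F m (Fin.castSucc_lt_succ (i := i)).ne 1

/-- The transposition. -/
def sw (i : Fin m) : Equiv.Perm (Fin (m + 1)) := Equiv.swap i.castSucc i.succ

/-- The signs. -/
def sgn (i : Fin m) (k : Fin (m + 1)) : F := if k = i.castSucc then -1 else 1

lemma sgn_sq (i : Fin m) (k : Fin (m + 1)) : sgn F m i k * sgn F m i k = 1 := by
  unfold sgn; split_ifs <;> simp

lemma word_apply {a b : Fin (m + 1)} (hab : a ≠ b) (k l : Fin (m + 1)) :
    ((Matrix.transvection a b (1 : F) * (Matrix.transvection b a (-1) * Matrix.transvection a b 1)) :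
      Matrix (Fin (m + 1)) (Fin (m + 1)) F) k l =
      if k = Equiv.swap a b l then (if l = a then -1 else 1) else 0 := by
  simp only [SLGen.tv_mul_apply, SLGen.tv_apply]
  rcases eq_or_ne l a with rfl | hla
  · rcases eq_or_ne k l with rfl | hka
    · simp [hab, hab.symm]
    · rcases eq_or_ne k b with rfl | hkb
      · simp [hab, hab.symm]
      · simp [hab, hab.symm, hka, hkb, Equiv.swap_apply_left]
  · rcases eq_or_ne l b with rfl | hlb
    · rcases eq_or_ne k a with rfl | hka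
      · simp [hab, hab.symm]
      · rcases eq_or_ne k l with rfl | hkb
        · simp [hab, hab.symm]
        · simp [hab, hab.symm, hka, hkb, Equiv.swap_apply_right]
    · rw [Equiv.swap_apply_of_ne_of_ne hla hlb]
      rcases eq_or_ne k a with rfl | hka
      · simp [hab, hab.symm, hla, hlb, Ne.symm hla, Ne.symm hlb]
      · rcases eq_or_ne k b with rfl | hkb
        · simp [hab, hab.symm, hla, hlb, Ne.symm hla, Ne.symm hlb]
        · simp [hab, hab.symm, hla, hlb, hka, hkb]

lemma rank_one_word {a b : Fin (m + 1)} (hab : a ≠ b) {t : F} (ht : t ≠ 0) (p q : Fin (m + 1)) :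
    ((Matrix.transvection a b (-t⁻¹) * (Matrix.transvection b a t * Matrix.transvection a b (-t⁻¹))) :
      Matrix (Fin (m + 1)) (Fin (m + 1)) F) p q =
      (if p = a then -t⁻¹ else if p = b then -t else 1) *
        (if p = Equiv.swap a b q then (if q = a then -1 else 1) else 0) := by
  simp only [SLGen.tv_mul_apply, SLGen.tv_apply]
  rcases eq_or_ne p a with rfl | hpa
  · rcases eq_or_ne q p with rfl | hqa
    · simp [hab, hab.symm, ht, Equiv.swap_apply_left]
    · rcases eq_or_ne q b with rfl | hqb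
      · simp [hab, hab.symm, ht, Equiv.swap_apply_right]
      · simp [hab, hab.symm, ht, hqa, hqb, hqa.symm, hqb.symm, Equiv.swap_apply_of_ne_of_ne hqa hqb]
  · rcases eq_or_ne p b with rfl | hpb
    · rcases eq_or_ne q a with rfl | hqa
      · simp [hab, hab.symm, ht, Equiv.swap_apply_left]
      · rcases eq_or_ne q p with rfl | hqb
        · simp [hab, hab.symm, ht, Equiv.swap_apply_right]
        · simp [hab, hab.symm, ht, hqa, hqb, hqa.symm, hqb.symm, Equiv.swap_apply_of_ne_of_ne hqa hqb]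
    · rcases eq_or_ne q a with rfl | hqa
      · simp [hab, hab.symm, hpa, hpb, Equiv.swap_apply_left]
      · rcases eq_or_ne q b with rfl | hqb
        · simp [hab, hab.symm, hpa, hpb, Equiv.swap_apply_right]
        · simp [hab, hab.symm, hpa, hpb, hqa, hqb, Equiv.swap_apply_of_ne_of_ne hqa hqb]

lemma nn_apply (i : Fin m) (k l : Fin (m + 1)) :
    (nn F m i).1 k l = if k = sw m i l then sgn F m i l else 0 := by
  simp only [nn, Matrix.SpecialLinearGroup.coe_mul, x_coe, mul_assoc]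
  exact word_apply F m (Fin.castSucc_lt_succ (i := i)).ne k l

lemma nn_mul_apply (i : Fin m) (A : Matrix (Fin (m + 1)) (Fin (m + 1)) F) (k l : Fin (m + 1)) :
    ((nn F m i).1 * A) k l = sgn F m i (sw m i k) * A (sw m i k) l := by
  rw [Matrix.mul_apply, Finset.sum_eq_single (sw m i k)]
  · rw [nn_apply, if_pos (by simp [sw])]
  · intro z _ hz
    rw [nn_apply, if_neg (fun e => hz (by rw [e]; simp [sw])), zero_mul]
  · simp

lemma mul_nn_apply (i : Fin m) (A : Matrix (Fin (m + 1)) (Fin (m + 1)) F) (k l : Fin (m + 1)) :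
    (A * (nn F m i).1) k l = A k (sw m i l) * sgn F m i l := by
  rw [Matrix.mul_apply, Finset.sum_eq_single (sw m i l)]
  · rw [nn_apply, if_pos rfl]
  · intro z _ hz
    rw [nn_apply, if_neg hz, mul_zero]
  · simp

lemma nn_conj_x (i : Fin m) {j k : Fin (m + 1)} (hjk : j ≠ k) (c : F) :
    nn F m i * x F m hjk c * (nn F m i)⁻¹ =
      x F m ((sw m i).injective.ne hjk) (c * sgn F m i j * sgn F m i k) := by
  rw [mul_inv_eq_iff_eq_mul]
  apply Subtype.ext
  rw [Matrix.SpecialLinearGroup.coe_mul, Matrix.SpecialLinearGroup.coe_mul, x_coe, x_coe]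
  ext p q
  rw [nn_mul_apply, mul_nn_apply, SLGen.tv_apply, SLGen.tv_apply, mul_add, add_mul]
  have hinv : ∀ z, sw m i (sw m i z) = z := fun z => by simp [sw]
  congr 1
  · by_cases h : sw m i p = q
    · subst h; simp [hinv]
    · rw [if_neg h, if_neg (fun e => h (by rw [e, hinv])), mul_zero, zero_mul]
  · by_cases h : sw m i p = j ∧ q = k
    · obtain ⟨h1, rfl⟩ := h
      subst h1
      rw [if_pos ⟨rfl, rfl⟩, if_pos ⟨(hinv p).symm, rfl⟩]
      rw [mul_assoc, mul_assoc, sgn_sq, mul_one, mul_comm]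
    · rw [if_neg h, if_neg, mul_zero, zero_mul]
      rintro ⟨h1, h2⟩
      exact h ⟨by rw [h1, hinv], (sw m i).injective h2⟩

lemma nn_conj_diag (i : Fin m) {h : Γ} (hh : h ∈ diagSub F m) :
    nn F m i * h * (nn F m i)⁻¹ ∈ diagSub F m := by
  let h' : Γ := ⟨diagonal fun k => h.1 (sw m i k) (sw m i k), by
    rw [det_diagonal, Equiv.prod_comp (sw m i) fun k => h.1 k k]
    have := h.2
    rw [← hh.1.diagonal_diag, det_diagonal] at this
    exact this⟩
  have key : nn F m i * h = h' * nn F m i := by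
    apply Subtype.ext
    rw [Matrix.SpecialLinearGroup.coe_mul, Matrix.SpecialLinearGroup.coe_mul]
    ext p q
    rw [nn_mul_apply]
    show _ = (diagonal (fun k => h.1 (sw m i k) (sw m i k)) * (nn F m i).1) p q
    rw [diagonal_mul, nn_apply]
    by_cases hpq : p = sw m i q
    · subst hpq
      rw [if_pos rfl, show sw m i (sw m i q) = q by simp [sw], mul_comm]
    · rw [if_neg hpq, mul_zero, hh.1 (fun e => hpq (by rw [← e]; simp [sw])), mul_zero]
  rw [key, mul_inv_cancel_right]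
  exact mem_diag_of_eq F m _ rfl

lemma nn_sq (i : Fin m) : nn F m i * nn F m i ∈ diagSub F m := by
  refine mem_diag_of_eq F m (fun k => sgn F m i (sw m i k) * sgn F m i k) ?_
  rw [Matrix.SpecialLinearGroup.coe_mul]
  ext p q
  rw [nn_mul_apply, nn_apply, diagonal_apply]
  by_cases hpq : p = q
  · subst hpq; rw [if_pos rfl, if_pos rfl]
  · rw [if_neg (fun e => hpq ((sw m i).injective e)), if_neg hpq, mul_zero]

lemma diag_conj_x {h : Γ} (hh : h ∈ diagSub F m) {j k : Fin (m + 1)} (hjk : j ≠ k) (c : F) :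
    h * x F m hjk c * h⁻¹ = x F m hjk (c * h.1 j j / h.1 k k) := by
  obtain ⟨d, hd⟩ : ∃ d, h.1 = diagonal d := ⟨_, hh.1.diagonal_diag.symm⟩
  have hk : d k ≠ 0 := by
    have := diag_ne_zero F m hh k
    rwa [hd, diagonal_apply_eq] at this
  rw [mul_inv_eq_iff_eq_mul]
  apply Subtype.ext
  rw [Matrix.SpecialLinearGroup.coe_mul, Matrix.SpecialLinearGroup.coe_mul, x_coe, x_coe, hd, diagonal_apply_eq,
    diagonal_apply_eq]
  ext p q
  rw [diagonal_mul, mul_diagonal, SLGen.tv_apply, SLGen.tv_apply, mul_add, add_mul]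
  congr 1
  · by_cases h : p = q
    · subst h; simp
    · rw [if_neg h, mul_zero, zero_mul]
  · by_cases h1 : p = j ∧ q = k
    · obtain ⟨rfl, rfl⟩ := h1
      rw [if_pos ⟨rfl, rfl⟩, if_pos ⟨rfl, rfl⟩, div_mul_cancel₀ _ hk, mul_comm]
    · rw [if_neg h1, if_neg h1, mul_zero, zero_mul]

lemma x_comm_cases {a b c d : Fin (m + 1)} (hab : a ≠ b) (hcd : c ≠ d) (s t : F) :
    (b = c → ∀ had : a ≠ d, x F m hab s * x F m hcd t * (x F m hab s)⁻¹ =
      x F m had (s * t) * x F m hcd t) ∧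
    (a = d → ∀ hcb : c ≠ b, x F m hab s * x F m hcd t * (x F m hab s)⁻¹ =
      x F m hcd t * x F m hcb (-(t * s))) ∧
    (b ≠ c → a ≠ d → x F m hab s * x F m hcd t * (x F m hab s)⁻¹ = x F m hcd t) := by
  refine ⟨?_, ?_, ?_⟩
  · rintro rfl had
    rw [← mul_inv_eq_iff_eq_mul]
    exact SLGen.tv_comm hab hcd had s t
  · rintro rfl hcb
    have h1 : x F m hcd t * x F m hab s * (x F m hcd t)⁻¹ * (x F m hab s)⁻¹ = x F m hcb (t * s) :=
      SLGen.tv_comm hcd hab hcb t s
    have h2 : x F m hcb (-(t * s)) = (x F m hcb (t * s))⁻¹ := by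
      rw [x, x, Matrix.SpecialLinearGroup.transvection_inv]
    have h3 : x F m hcd t * (x F m hcb (t * s))⁻¹ = (x F m hcb (t * s))⁻¹ * x F m hcd t := by
      apply Subtype.ext
      rw [x, x, Matrix.SpecialLinearGroup.transvection_inv, Matrix.SpecialLinearGroup.coe_mul,
        Matrix.SpecialLinearGroup.coe_mul]
      ext p q
      show (Matrix.transvection c a t * Matrix.transvection c b (-(t * s))) p q =
        (Matrix.transvection c b (-(t * s)) * Matrix.transvection c a t) p q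
      simp only [SLGen.tv_mul_apply, SLGen.tv_apply]
      by_cases hp : p = c
      · simp [hp, Ne.symm hcd, Ne.symm hcb]
        by_cases hqa : a = q <;> by_cases hqb : b = q <;> simp [hqa, hqb, eq_comm] <;> ring
      · simp [hp]
    rw [h2, h3, ← h1]
    group
  · intro hbc had
    rw [mul_inv_eq_iff_eq_mul]
    apply Subtype.ext
    rw [Matrix.SpecialLinearGroup.coe_mul, Matrix.SpecialLinearGroup.coe_mul, x_coe, x_coe]
    ext p q
    rw [SLGen.tv_mul_apply, SLGen.tv_mul_apply, SLGen.tv_apply, SLGen.tv_apply, SLGen.tv_apply, SLGen.tv_apply]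
    by_cases hp : p = a <;> by_cases hp' : p = c <;> by_cases hq : q = b <;> by_cases hq' : q = d <;>
      subst_vars <;> simp_all [eq_comm] <;> ring

/-- The root group data. -/
def slRGD : RGD.RootData Γ (Root m) (Fin m) where
  U := rootGrp F m
  H := diagSub F m
  n := nn F m
  simple i := ⟨(i.castSucc, i.succ), (Fin.castSucc_lt_succ (i := i)).ne⟩
  pos r := r.1.1 < r.1.2
  neg r := ⟨(r.1.2, r.1.1), Ne.symm r.2⟩
  w i r := ⟨(sw m i r.1.1, sw m i r.1.2), (sw m i).injective.ne r.2⟩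
  neg_neg _ := rfl
  pos_neg r := by
    show r.1.2 < r.1.1 ↔ ¬ r.1.1 < r.1.2
    rw [not_lt, le_iff_lt_or_eq, or_iff_left (Ne.symm r.2)]
  pos_simple i := Fin.castSucc_lt_succ
  simple_inj i j h := Fin.castSucc_injective _ (congrArg (fun r : Root m => r.1.1) h)
  w_simple i := by simp [sw]
  w_pos i r hr hne := by
    obtain ⟨⟨j, k⟩, hjk⟩ := r
    have hne' : ¬ (j = i.castSucc ∧ k = i.succ) := fun h => hne (Subtype.ext (Prod.ext h.1 h.2))
    show sw m i j < sw m i k
    simp only [sw, Equiv.swap_apply_def]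
    have hr' : j < k := hr
    rw [Fin.lt_def] at hr'
    simp only [Fin.ext_iff, Fin.val_castSucc, Fin.val_succ] at hne'
    split_ifs with h1 h2 h3 h4 h5 h6 h7 h8 <;> rw [Fin.lt_def] <;>
      simp only [Fin.ext_iff, Fin.val_castSucc, Fin.val_succ] at * <;> omega
  w_neg i r := rfl
  w_w i r := by ext <;> simp [sw]
  H_conj_U := by
    rintro h hh r _ ⟨c, rfl⟩
    exact ⟨_, diag_conj_x F m hh r.2 c⟩
  n_conj_U := by
    rintro i r _ ⟨c, rfl⟩
    exact ⟨_, nn_conj_x F m i r.2 c⟩
  n_conj_H i h hh := nn_conj_diag F m i hh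
  n_sq := nn_sq F m
  n_mem i := by
    refine Subgroup.mem_sup_left ?_
    exact mul_mem (mul_mem (Subgroup.mem_sup_left ⟨1, rfl⟩) (Subgroup.mem_sup_right ⟨-1, rfl⟩))
      (Subgroup.mem_sup_left ⟨1, rfl⟩)
  U_conj := by
    rintro i _ ⟨s, rfl⟩ r hr hne _ ⟨t, rfl⟩
    obtain ⟨⟨c, d⟩, hcd⟩ := r
    have hr' : c < d := hr
    have hne' : ¬ (c = i.castSucc ∧ d = i.succ) := fun h => hne (Subtype.ext (Prod.ext h.1 h.2))
    have hab := Fin.castSucc_lt_succ (i := i)
    have hmem : ∀ (q : Root m), q.1.1 < q.1.2 → ¬ (q.1.1 = i.castSucc ∧ q.1.2 = i.succ) → ∀ u : F,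
        x F m q.2 u ∈ ⨆ s ∈ {s : Root m | s.1.1 < s.1.2 ∧ s ≠ ⟨(i.castSucc, i.succ), hab.ne⟩}, rootGrp F m s :=
      fun q h1 h2 u => Subgroup.mem_iSup_of_mem q (Subgroup.mem_iSup_of_mem
        ⟨h1, fun e => h2 ⟨congrArg (fun r : Root m => r.1.1) e, congrArg (fun r : Root m => r.1.2) e⟩⟩ ⟨u, rfl⟩)
    obtain ⟨k1, k2, k3⟩ := x_comm_cases F m hab.ne hcd s t
    by_cases hbc : i.succ = c
    · have had : i.castSucc < d := hab.trans (hbc ▸ hr')
      rw [k1 hbc had.ne]
      exact mul_mem (hmem ⟨(_, _), had.ne⟩ had (fun h => hr'.ne (hbc.symm.trans h.2.symm)) _)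
        (hmem ⟨(c, d), hcd⟩ hr' hne' t)
    by_cases had : i.castSucc = d
    · have hcb : c < i.succ := (had ▸ hr' : c < i.castSucc).trans hab
      rw [k2 had hcb.ne]
      exact mul_mem (hmem ⟨(c, d), hcd⟩ hr' hne' t)
        (hmem ⟨(_, _), hcb.ne⟩ hcb (fun h => hr'.ne (h.1.trans had)) _)
    rw [k3 hbc had]
    exact hmem ⟨(c, d), hcd⟩ hr' hne' t
  rank_one := by
    rintro i _ ⟨t, rfl⟩ hy1
    have hab := Fin.castSucc_lt_succ (i := i)
    have ht : t ≠ 0 := by
      rintro rfl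
      exact hy1 (Subtype.ext (Matrix.transvection_zero _ _))
    refine ⟨x F m hab.ne t⁻¹, ⟨_, rfl⟩,
      (x F m hab.ne t⁻¹)⁻¹ * x F m hab.ne' t * (x F m hab.ne t⁻¹)⁻¹ * (nn F m i)⁻¹, ?_,
      x F m hab.ne t⁻¹, ⟨_, rfl⟩, by group⟩
    refine mem_diag_of_eq F m (fun k => if k = i.castSucc then -t⁻¹ else if k = i.succ then -t else 1) ?_
    have key : ((x F m hab.ne (-t⁻¹) * x F m hab.ne' t * x F m hab.ne (-t⁻¹) : Γ) : Matrix _ _ F) =
        diagonal (fun k => if k = i.castSucc then -t⁻¹ else if k = i.succ then -t else 1) * (nn F m i).1 := by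
      ext p q
      rw [diagonal_mul, nn_apply, Matrix.SpecialLinearGroup.coe_mul, Matrix.SpecialLinearGroup.coe_mul, x_coe, x_coe,
        mul_assoc]
      exact rank_one_word F m hab.ne ht p q
    show ((x F m hab.ne t⁻¹)⁻¹ * x F m hab.ne' t * (x F m hab.ne t⁻¹)⁻¹ * (nn F m i)⁻¹ : Γ).1 = _
    simp only [x, Matrix.SpecialLinearGroup.transvection_inv] at key ⊢
    rw [Matrix.SpecialLinearGroup.coe_mul, key, Matrix.mul_assoc, ← Matrix.SpecialLinearGroup.coe_mul,
      mul_inv_cancel, Matrix.SpecialLinearGroup.coe_one, Matrix.mul_one]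
  U_ne_bot r h := by
    have h1 : x F m r.2 (1 : F) = 1 := Subgroup.mem_bot.1 (h ▸ x_mem F m (r := r) (1 : F))
    have := congrArg (fun g : Γ => g.1 r.1.1 r.1.2) h1
    simp [x_coe, SLGen.tv_apply, r.2] at this
  B_inf_V := by
    rw [eq_bot_iff]
    rintro g ⟨hB, hV⟩
    have h1 : g ∈ tri F m (id : Fin (m + 1) → Fin (m + 1)) := by
      refine sup_le (iSup₂_le fun r hr => ?_) (diagSub_le_tri F m id) hB
      rintro _ ⟨c, rfl⟩
      exact (x_mem_unitri F m (b := id) Function.injective_id r.2 hr c).1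
    have h2 : g ∈ unitri F m (OrderDual.toDual : Fin (m + 1) → (Fin (m + 1))ᵒᵈ) OrderDual.toDual.injective := by
      refine (iSup₂_le (fun r hr => ?_) : (⨆ s ∈ {s : Root m | ¬ s.1.1 < s.1.2}, rootGrp F m s) ≤
        unitri F m (OrderDual.toDual : Fin (m + 1) → (Fin (m + 1))ᵒᵈ) OrderDual.toDual.injective) hV
      rintro _ ⟨c, rfl⟩
      exact x_mem_unitri F m _ r.2 (OrderDual.toDual_lt_toDual.2 (lt_of_le_of_ne (not_lt.1 hr) (Ne.symm r.2))) c
    rw [Subgroup.mem_bot]
    apply Subtype.ext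
    ext p q
    rcases lt_trichotomy p q with h | h | h
    · rw [h2.1.1 (OrderDual.toDual_lt_toDual.2 h)]; simp [h.ne]
    · subst h; rw [h2.2]; simp
    · rw [h1.1 h]; simp [h.ne']
  U_inf_H := by
    rw [eq_bot_iff]
    rintro g ⟨hU, hH⟩
    have h1 : g ∈ unitri F m (id : Fin (m + 1) → Fin (m + 1)) Function.injective_id := by
      refine (iSup₂_le (fun r hr => ?_) : (⨆ s ∈ {s : Root m | s.1.1 < s.1.2}, rootGrp F m s) ≤
        unitri F m (id : Fin (m + 1) → Fin (m + 1)) Function.injective_id) hU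
      rintro _ ⟨c, rfl⟩
      exact x_mem_unitri F m (b := id) _ r.2 hr c
    rw [Subgroup.mem_bot]
    apply Subtype.ext
    ext p q
    rcases eq_or_ne p q with h | h
    · subst h; rw [h1.2]; simp
    · rw [hH.1 h]; simp [h]

end Cfsg.Agent.SLRGD
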